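import Groth.Agent.GrassLib.Free
import Groth.Agent.FittLib.Ideal
import Groth.Agent.FittLib.BaseChange

/-!
# Points of Grassmannians of a presented module where a minor is a non-zero divisor
-/

set_option autoImplicit false
set_option linter.style.haveILetI false
set_option linter.unusedSectionVars false

universe u

open TensorProduct GrassLib Matrix

noncomputable section

namespace QuotBlowLib

variable {R : Type u} [CommRing R] {A : Type u} [CommRing A] [Algebra R A]
  {M : Type u} [AddCommGroup M] [Module R M] {n q r k : ℕ}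
  (π : (Fin n → R) →ₗ[R] M) (s : Fin q → Fin n → R)

variable (A) in
/-- The matrix of the relations. -/
def mat : Matrix (Fin n) (Fin q) A := Matrix.of fun i c => algebraMap R A (s c i)

/-- The generators. -/
def gen (i : Fin n) : M := π (Pi.single i 1)

theorem apply_eq_sum (v : Fin n → R) : π v = ∑ i, v i • gen π i := by
  conv_lhs => rw [pi_eq_sum_univ' v, map_sum]
  exact Finset.sum_congr rfl fun i _ => map_smul π _ _

theorem span_gen (hπ : Function.Surjective π) : Submodule.span R (Set.range (gen π)) = ⊤ := by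
  rw [eq_top_iff]
  rintro x -
  obtain ⟨v, rfl⟩ := hπ x
  rw [apply_eq_sum]
  exact Submodule.sum_mem _ fun i _ => Submodule.smul_mem _ _ (Submodule.subset_span ⟨i, rfl⟩)

theorem rel_gen : FittLib.rel (R := R) (gen π) = (LinearMap.ker π : Set (Fin n → R)) := by
  ext z
  show ∑ i, z i • gen π i = 0 ↔ π z = 0
  rw [apply_eq_sum]

theorem fitt_eq (hπ : Function.Surjective π) (hker : LinearMap.ker π = Submodule.span R (Set.range s)) (j : ℕ) :
    Fitt.ideal R M j = FittLib.J (Set.range s) (n - j) := by
  rw [FittLib.ideal_eq (gen π) (span_gen π hπ) j, rel_gen, hker, FittLib.J_span]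

theorem det_mat_submatrix {l : ℕ} (e : Fin l → Fin n) (c : Fin l → Fin q) :
    ((mat A s).submatrix e c).det = algebraMap R A (FittLib.minor (fun b => s (c b)) e) := by
  rw [FittLib.minor, RingHom.map_det]
  rfl

theorem det_mem_fitt (hπ : Function.Surjective π) (hker : LinearMap.ker π = Submodule.span R (Set.range s))
    (j : ℕ) {l : ℕ} (hl : l = n - j) (e : Fin l → Fin n) (c : Fin l → Fin q) :
    ((mat A s).submatrix e c).det ∈ (Fitt.ideal R M j).map (algebraMap R A) := by
  subst hl
  rw [det_mat_submatrix, fitt_eq π s hπ hker]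
  exact Ideal.mem_map_of_mem _ (FittLib.minor_mem e fun b => ⟨c b, rfl⟩)

theorem fitt_map_le (hπ : Function.Surjective π) (hker : LinearMap.ker π = Submodule.span R (Set.range s))
    (j : ℕ) {l : ℕ} (hl : l = n - j) {I : Ideal A}
    (h : ∀ (e : Fin l → Fin n) (c : Fin l → Fin q), ((mat A s).submatrix e c).det ∈ I) :
    (Fitt.ideal R M j).map (algebraMap R A) ≤ I := by
  subst hl
  rw [Ideal.map_le_iff_le_comap, fitt_eq π s hπ hker, FittLib.J_le_iff]
  intro z e hz
  choose c hc using hz
  have hz' : z = fun b => s (c b) := funext fun b => (hc b).symm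
  subst hz'
  exact (congrArg (· ∈ I) (det_mat_submatrix s e c)).mp (h e c)

/-- The point of a combination. -/
def qv (v : Fin n → A) : A ⊗[R] M := ∑ i, v i • ((1 : A) ⊗ₜ[R] gen π i)

theorem qv_surjective (hπ : Function.Surjective π) : Function.Surjective (qv (A := A) π) := by
  intro y
  induction y using TensorProduct.induction_on with
  | zero => exact ⟨0, by simp [qv]⟩
  | tmul c x =>
    obtain ⟨v, rfl⟩ := hπ x
    refine ⟨fun i => c * algebraMap R A (v i), ?_⟩
    rw [apply_eq_sum, tmul_sum, qv]
    refine Finset.sum_congr rfl fun i _ => ?_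
    rw [smul_tmul', smul_eq_mul, mul_one, tmul_smul, ← algebraMap_smul A (v i) (c ⊗ₜ[R] gen π i), smul_tmul',
      smul_eq_mul, mul_comm]
  | add y z hy hz =>
    obtain ⟨v, rfl⟩ := hy
    obtain ⟨w, rfl⟩ := hz
    exact ⟨v + w, by simp [qv, add_smul, Finset.sum_add_distrib]⟩

theorem qv_col (hker : LinearMap.ker π = Submodule.span R (Set.range s)) (c : Fin q) :
    qv π (fun i => mat A s i c) = 0 := by
  have h0 : π (s c) = 0 := by
    rw [← LinearMap.mem_ker, hker]
    exact Submodule.subset_span ⟨c, rfl⟩
  rw [apply_eq_sum] at h0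
  calc qv π (fun i => mat A s i c) = (1 : A) ⊗ₜ[R] ∑ i, s c i • gen π i := by
        rw [qv, tmul_sum]
        refine Finset.sum_congr rfl fun i _ => ?_
        rw [tmul_smul, mat, Matrix.of_apply, algebraMap_smul]
    _ = 0 := by rw [h0, tmul_zero]

variable (e : Fin r ⊕ Fin k ≃ Fin n)

theorem exists_factor (hker : LinearMap.ker π = Submodule.span R (Set.range s)) {φ : M →ₗ[R] (Fin k → A)}
    (hφ : Normal (fun j => gen π (e (Sum.inr j))) φ) :
    ∃ G : Matrix (Fin n) (Fin r) A, mat A s = G * (mat A s).submatrix (fun a => e (Sum.inl a)) id := by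
  classical
  refine ⟨Matrix.of fun i a => Sum.elim (fun a' => if a' = a then 1 else 0)
    (fun j => - φ (gen π (e (Sum.inl a))) j) (e.symm i), ?_⟩
  ext i c
  rw [Matrix.mul_apply]
  obtain ⟨i, rfl⟩ := e.surjective i
  simp only [Matrix.of_apply, Equiv.symm_apply_apply, Matrix.submatrix_apply, id]
  rcases i with a | j
  · simp
  · have h0 : π (s c) = 0 := by
      rw [← LinearMap.mem_ker, hker]
      exact Submodule.subset_span ⟨c, rfl⟩
    rw [apply_eq_sum, ← e.sum_comp, Fintype.sum_sum_type] at h0
    have h1 := congrArg (fun x => φ x j) h0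
    simp only [map_add, map_sum, map_smul, map_zero, Pi.add_apply, Finset.sum_apply, Pi.smul_apply, Pi.zero_apply] at h1
    have h2 : ∑ j' : Fin k, s c (e (Sum.inr j')) • φ (gen π (e (Sum.inr j'))) j = algebraMap R A (s c (e (Sum.inr j))) := by
      simp only [show ∀ j', φ (gen π (e (Sum.inr j'))) = Pi.single j' 1 from hφ]
      rw [Finset.sum_eq_single j (fun j' _ h => by simp [Ne.symm h]) (by simp), Pi.single_eq_same,
        Algebra.smul_def, mul_one]
    rw [h2] at h1
    simp only [Sum.elim_inr, mat, Matrix.of_apply]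
    rw [eq_neg_of_add_eq_zero_right h1, ← Finset.sum_neg_distrib]
    refine Finset.sum_congr rfl fun a _ => ?_
    rw [Algebra.smul_def]
    ring

/-- The hypotheses on a distinguished minor. -/
structure IsPivot (S : Matrix (Fin n) (Fin q) A) (I : Fin r → Fin n) (J : Fin r → Fin q) : Prop where
  nzd : (S.submatrix I J).det ∈ nonZeroDivisors A
  mem : ∀ (e : Fin r → Fin n) (c : Fin r → Fin q), (S.submatrix e c).det ∈ Ideal.span {(S.submatrix I J).det}
  van : ∀ (e : Fin (r + 1) → Fin n) (c : Fin (r + 1) → Fin q), (S.submatrix e c).det = 0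

theorem IsPivot.transpose {S : Matrix (Fin n) (Fin q) A} {I : Fin r → Fin n} {J : Fin r → Fin q}
    (h : IsPivot S I J) : IsPivot Sᵀ J I where
  nzd := by rw [← Matrix.transpose_submatrix, Matrix.det_transpose]; exact h.nzd
  mem e' c := by
    rw [← Matrix.transpose_submatrix, Matrix.det_transpose, ← Matrix.transpose_submatrix, Matrix.det_transpose]
    exact h.mem c e'
  van e' c := by
    rw [← Matrix.transpose_submatrix, Matrix.det_transpose]
    exact h.van c e'

theorem IsPivot.injective [Nontrivial A] {S : Matrix (Fin n) (Fin q) A} {I : Fin r → Fin n} {J : Fin r → Fin q}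
    (h : IsPivot S I J) : Function.Injective I := by
  by_contra hn
  obtain ⟨a, a', haa, hne⟩ := Function.not_injective_iff.mp hn
  refine nonZeroDivisors.ne_zero h.nzd (Matrix.det_zero_of_row_eq hne (funext fun b => ?_))
  simp [haa]

theorem IsPivot.exists_coeff {S : Matrix (Fin n) (Fin q) A} {I : Fin r → Fin n} {J : Fin r → Fin q}
    (h : IsPivot S I J) :
    ∃ G : Matrix (Fin n) (Fin r) A, (S.submatrix I J).det • G = S.submatrix id J * (S.submatrix I J).adjugate ∧
      G.submatrix I id = 1 ∧ S = G * S.submatrix I id := by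
  classical
  set T := S.submatrix I J with hT
  set Δ := T.det with hΔ
  have hnum : ∀ i a, ∃ g, (S.submatrix id J * T.adjugate) i a = Δ * g := fun i a => by
    refine Ideal.mem_span_singleton.1 ?_
    have : (S.submatrix id J * T.adjugate) i a = (S.submatrix (Function.update I a i) J).det := by
      have h1 : (S.submatrix id J * T.adjugate) i a = Matrix.cramer Tᵀ (fun b => S i (J b)) a := by
        rw [Matrix.cramer_eq_adjugate_mulVec, ← Matrix.adjugate_transpose, Matrix.mul_apply, Matrix.mulVec]
        exact Finset.sum_congr rfl fun b _ => mul_comm _ _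
      rw [h1, Matrix.cramer_apply, Matrix.updateCol_transpose, Matrix.det_transpose]
      congr 1
      ext a' b
      by_cases ha : a' = a
      · subst ha; simp
      · simp [ha, T]
    rw [this]
    exact h.mem _ _
  choose g hg using hnum
  refine ⟨Matrix.of g, ?_, ?_, ?_⟩
  · ext i a
    exact (hg i a).symm
  · ext a' a
    refine (mem_nonZeroDivisors_iff_right.mp h.nzd _ ?_ : g (I a') a - (1 : Matrix (Fin r) (Fin r) A) a' a = 0) |> sub_eq_zero.1
    rw [sub_mul, mul_comm, ← hg, sub_eq_zero]
    have h2 := congrFun (congrFun (Matrix.mul_adjugate T) a') a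
    rw [Matrix.smul_apply, smul_eq_mul, mul_comm] at h2
    exact (Matrix.mul_apply.trans (Matrix.mul_apply.symm.trans h2) : _)
  · ext i c
    let v : Matrix (Fin r) (Fin 1) A := Matrix.of fun a _ => S (I a) c
    let w : Matrix (Fin 1) (Fin r) A := Matrix.of fun _ b => S i (J b)
    let x : Matrix (Fin 1) (Fin 1) A := Matrix.of fun _ _ => S i c
    have hL : (Matrix.fromBlocks T v w x).det = 0 := by
      have h0 := h.van (Sum.elim I (fun _ : Fin 1 => i) ∘ finSumFinEquiv.symm)
        (Sum.elim J (fun _ : Fin 1 => c) ∘ finSumFinEquiv.symm)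
      rw [← Matrix.submatrix_submatrix, Matrix.det_submatrix_equiv_self] at h0
      rw [← h0]
      congr 1
      ext (a | a) (b | b) <;> rfl
    have hmul : Matrix.fromBlocks T v w x * Matrix.fromBlocks T.adjugate (-(T.adjugate * v)) 0 (Δ • (1 : Matrix (Fin 1) (Fin 1) A)) =
        Matrix.fromBlocks (Δ • (1 : Matrix (Fin r) (Fin r) A)) 0 (w * T.adjugate) (Δ • x - w * T.adjugate * v) := by
      rw [Matrix.fromBlocks_multiply, Matrix.mul_zero, Matrix.mul_zero, add_zero, add_zero, Matrix.mul_adjugate,
        Matrix.mul_neg, Matrix.mul_neg, ← Matrix.mul_assoc, Matrix.mul_adjugate, Matrix.smul_mul, Matrix.one_mul,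
        Matrix.mul_smul, Matrix.mul_one, neg_add_cancel, Matrix.mul_smul, Matrix.mul_one, ← Matrix.mul_assoc,
        neg_add_eq_sub]
    have h0 := congrArg Matrix.det hmul
    rw [Matrix.det_mul, hL, zero_mul, Matrix.det_fromBlocks_zero₁₂, Matrix.det_smul, Matrix.det_one, mul_one,
      Fintype.card_fin, Matrix.det_fin_one, mul_comm] at h0
    have h3 := mem_nonZeroDivisors_iff_right.mp (pow_mem h.nzd r) _ h0.symm
    simp only [Matrix.sub_apply, Matrix.smul_apply, smul_eq_mul, sub_eq_zero] at h3
    refine (mem_nonZeroDivisors_iff_right.mp h.nzd _ ?_ : S i c - _ = 0) |> sub_eq_zero.1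
    rw [sub_mul, sub_eq_zero, mul_comm, show Δ * S i c = _ from h3, Matrix.mul_apply, Matrix.mul_apply, Finset.sum_mul]
    refine Finset.sum_congr rfl fun a _ => ?_
    rw [show (w * T.adjugate) 0 a = Δ * g i a from hg i a]
    show Δ * g i a * S (I a) c = g i a * S (I a) c * Δ
    ring

variable {π s e}

/-- There is exactly one point where a minor is a pivot. -/
theorem existsUnique_pt (hπ : Function.Surjective π) (hker : LinearMap.ker π = Submodule.span R (Set.range s))
    {J : Fin r → Fin q} (h : IsPivot (mat A s) (fun a => e (Sum.inl a)) J) :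
    ∃! N : Pt R M k A, True := by
  classical
  obtain ⟨G, hG, hG1, hS⟩ := h.exists_coeff
  set Δ := ((mat A s).submatrix (fun a => e (Sum.inl a)) J).det
  let φ0 : (Fin n → R) →ₗ[R] (Fin k → A) :=
    (Pi.basisFun R (Fin n)).constr R fun i =>
      Sum.elim (fun a j => - G (e (Sum.inr j)) a) (fun j' => Pi.single j' 1) (e.symm i)
  have hφ0 : ∀ i, φ0 (Pi.single (e i) 1) =
      Sum.elim (fun a j => - G (e (Sum.inr j)) a) (fun j' => Pi.single j' (1 : A)) i := fun i => by
    rw [← Pi.basisFun_apply]
    simp only [φ0, Module.Basis.constr_basis, Equiv.symm_apply_apply]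
  have hle : LinearMap.ker π ≤ LinearMap.ker φ0 := by
    rw [hker, Submodule.span_le]
    rintro _ ⟨c, rfl⟩
    rw [SetLike.mem_coe, LinearMap.mem_ker, pi_eq_sum_univ' (s c), map_sum, ← e.sum_comp, Fintype.sum_sum_type]
    simp only [map_smul, hφ0, Sum.elim_inl, Sum.elim_inr]
    funext j
    rw [Pi.add_apply, Finset.sum_apply, Finset.sum_apply, Pi.zero_apply]
    simp only [Pi.smul_apply, Algebra.smul_def]
    rw [Finset.sum_eq_single (f := fun x => algebraMap R A (s c (e (Sum.inr x))) * (Pi.single x (1 : A) : Fin k → A) j) j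
      (fun j' _ h => by simp [Ne.symm h]) (by simp), Pi.single_eq_same, mul_one]
    have h1 := congrFun (congrFun hS (e (Sum.inr j))) c
    rw [Matrix.mul_apply] at h1
    simp only [mat, Matrix.of_apply, Matrix.submatrix_apply, id] at h1
    rw [h1, ← Finset.sum_add_distrib]
    exact Finset.sum_eq_zero fun a _ => by ring
  let φ : M →ₗ[R] (Fin k → A) :=
    ((LinearMap.ker π).liftQ φ0 hle).comp (π.quotKerEquivOfSurjective hπ).symm.toLinearMap
  have hφ : ∀ i, φ (gen π (e i)) =
      Sum.elim (fun a j => - G (e (Sum.inr j)) a) (fun j' => Pi.single j' (1 : A)) i := fun i => by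
    rw [← hφ0]
    show (LinearMap.ker π).liftQ φ0 hle ((π.quotKerEquivOfSurjective hπ).symm (π _)) = _
    rw [show (π.quotKerEquivOfSurjective hπ).symm (π (Pi.single (e i) 1)) = Submodule.Quotient.mk (Pi.single (e i) 1)
      from (LinearEquiv.symm_apply_eq _).mpr rfl]
    rfl
  have hn : Normal (fun j => gen π (e (Sum.inr j))) φ := fun j => hφ (Sum.inr j)
  refine ⟨chartPt _ φ hn, trivial, fun N _ => (GrassLib.eq_of_le (N := chartPt _ φ hn) (N' := N) fun y hy => ?_).symm⟩
  change φ.liftBaseChange A y = 0 at hy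
  obtain ⟨v, rfl⟩ := qv_surjective π hπ y
  simp only [qv, map_sum, map_smul, LinearMap.liftBaseChange_one_tmul] at hy
  rw [← e.sum_comp, Fintype.sum_sum_type] at hy
  simp only [hφ, Sum.elim_inl, Sum.elim_inr] at hy
  have hv : ∀ i, v i = ∑ a, G i a * v (e (Sum.inl a)) := fun i => by
    obtain ⟨i, rfl⟩ := e.surjective i
    rcases i with a | j
    · have h1 : ∀ a', G (e (Sum.inl a)) a' = (1 : Matrix (Fin r) (Fin r) A) a a' := fun a' => congrFun (congrFun hG1 a) a'
      simp [h1, Matrix.one_apply]
    · have h1 := congrFun hy j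
      rw [Pi.add_apply, Finset.sum_apply, Finset.sum_apply, Pi.zero_apply] at h1
      simp only [Pi.smul_apply, smul_eq_mul] at h1
      rw [Finset.sum_eq_single (f := fun x => v (e (Sum.inr x)) * (Pi.single x (1 : A) : Fin k → A) j) j
        (fun j' _ h => by simp [Ne.symm h]) (by simp), Pi.single_eq_same, mul_one] at h1
      rw [eq_neg_of_add_eq_zero_right h1, ← Finset.sum_neg_distrib]
      exact Finset.sum_congr rfl fun a _ => by ring
  have hq : qv π v = ∑ a, v (e (Sum.inl a)) • qv π (fun i => G i a) := by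
    simp only [qv, Finset.smul_sum, smul_smul]
    rw [Finset.sum_comm]
    refine Finset.sum_congr rfl fun i _ => ?_
    rw [← Finset.sum_smul, hv i]
    exact congrArg (· • _) (Finset.sum_congr rfl fun a _ => mul_comm _ _)
  rw [hq]
  refine Submodule.sum_mem _ fun a _ => Submodule.smul_mem _ _ ?_
  rw [← Submodule.Quotient.mk_eq_zero, ← Submodule.mkQ_apply]
  haveI := N.projective_quotient
  obtain ⟨sec, hsec⟩ := Module.projective_def.mp N.projective_quotient
  have h0 : Δ • N.toSubmodule.mkQ (qv π (fun i => G i a)) = 0 := by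
    have h1 : Δ • qv π (fun i => G i a) = ∑ b, ((mat A s).submatrix (fun a => e (Sum.inl a)) J).adjugate b a •
        qv π (fun i => mat A s i (J b)) := by
      simp only [qv, Finset.smul_sum, smul_smul]
      rw [Finset.sum_comm]
      refine Finset.sum_congr rfl fun i _ => ?_
      rw [← Finset.sum_smul]
      refine congrArg (· • _) ?_
      have h2 := congrFun (congrFun hG i) a
      rw [Matrix.smul_apply, smul_eq_mul, Matrix.mul_apply] at h2
      rw [h2]
      exact Finset.sum_congr rfl fun b _ => mul_comm _ _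
    rw [← map_smul, h1]
    simp [qv_col π s hker]
  have h2 := congrArg sec h0
  rw [map_smul, map_zero] at h2
  have h3 : sec (N.toSubmodule.mkQ (qv π (fun i => G i a))) = 0 := Finsupp.ext fun z => by
    have := DFunLike.congr_fun h2 z
    rw [Finsupp.smul_apply, smul_eq_mul, Finsupp.zero_apply, mul_comm] at this
    exact mem_nonZeroDivisors_iff_right.mp h.nzd _ this
  rw [← hsec (N.toSubmodule.mkQ (qv π (fun i => G i a))), h3, map_zero]

theorem exists_equiv {I : Fin r → Fin n} (hI : Function.Injective I) (hn : r + k = n) :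
    ∃ e : Fin r ⊕ Fin k ≃ Fin n, ∀ a, e (Sum.inl a) = I a := by
  classical
  have hc : Fintype.card {i // i ∉ Set.range I} = k := by
    rw [Fintype.card_subtype_compl, Fintype.card_fin,
      show Fintype.card {i // i ∈ Set.range I} = r from (Set.card_range_of_injective hI).trans (Fintype.card_fin r)]
    omega
  exact ⟨(Equiv.sumCongr (Equiv.ofInjective I hI) (Fintype.equivFinOfCardEq hc).symm).trans
    (Equiv.sumCompl fun i => i ∈ Set.range I), fun a => rfl⟩

/-- The existence and uniqueness of points where a minor is a pivot. -/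
theorem existsUnique_pt' [Nontrivial A] (hπ : Function.Surjective π) (hker : LinearMap.ker π = Submodule.span R (Set.range s))
    {I : Fin r → Fin n} {J : Fin r → Fin q} (h : IsPivot (mat A s) I J) (hn : r + k = n) :
    ∃! N : Pt R M k A, True := by
  obtain ⟨e, he⟩ := exists_equiv h.injective hn
  exact existsUnique_pt (e := e) hπ hker (by rw [funext he]; exact h)

end QuotBlowLib

end
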