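import Groth.Agent.QuotBlowLib.Basic
import Groth.Agent.BlowUpLib.Props
import Groth.Agent.BlowUpLib.RegSmooth

/-!
# The product of two Quot schemes as the blowing up of a degeneracy locus
-/

set_option autoImplicit false
set_option backward.isDefEq.respectTransparency false
set_option backward.isDefEq.respectTransparency.types false
set_option linter.style.haveILetI false
set_option linter.unusedSectionVars false

universe u

open CategoryTheory CategoryTheory.Limits AlgebraicGeometry TensorProduct GrassLib Matrix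

noncomputable section

namespace QuotBlowLib

variable {R : Type u} [CommRing R] {m δ d : ℕ} (σ : (Fin m → R) →ₗ[R] (Fin (m + δ) → R))

/-- The module. -/
abbrev Mp : Type u := (Fin (m + δ) → R) ⧸ LinearMap.range σ

/-- The transposed module. -/
abbrev Km : Type u := Module.Dual R (Fin m → R) ⧸ LinearMap.range σ.dualMap

/-- The columns. -/
def cols (c : Fin m) : Fin (m + δ) → R := σ (Pi.single c 1)

/-- The rows. -/
def rows (i : Fin (m + δ)) : Fin m → R := fun c => cols σ c i

theorem mat_rows (A : Type u) [CommRing A] [Algebra R A] : mat A (rows σ) = (mat A (cols σ))ᵀ := rfl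

theorem ker_mkQ_eq : LinearMap.ker (LinearMap.range σ).mkQ = Submodule.span R (Set.range (cols σ)) := by
  rw [Submodule.ker_mkQ, LinearMap.range_eq_map, ← (Pi.basisFun R (Fin m)).span_eq, Submodule.map_span, ← Set.range_comp]
  congr 2
  funext c
  simp [cols]

/-- The map to the transposed module. -/
def pim : (Fin m → R) →ₗ[R] Km σ :=
  (LinearMap.range σ.dualMap).mkQ.comp (Pi.basisFun R (Fin m)).toDualEquiv.toLinearMap

theorem pim_surjective : Function.Surjective (pim σ) :=
  (Submodule.mkQ_surjective _).comp (Pi.basisFun R (Fin m)).toDualEquiv.surjective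

theorem toDual_rows (i : Fin (m + δ)) :
    (Pi.basisFun R (Fin m)).toDualEquiv (rows σ i) = σ.dualMap (LinearMap.proj i) := by
  refine (Pi.basisFun R (Fin m)).ext fun c => ?_
  rw [Module.Basis.toDualEquiv_apply, Module.Basis.toDual_apply_left]
  simp [rows, cols]

theorem ker_pim : LinearMap.ker (pim σ) = Submodule.span R (Set.range (rows σ)) := by
  classical
  rw [pim, LinearMap.ker_comp, Submodule.ker_mkQ]
  refine le_antisymm (fun v hv => ?_) (Submodule.span_le.2 ?_)
  · obtain ⟨w, hw⟩ := hv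
    have hv' : v = ∑ i, w (Pi.single i 1) • rows σ i := by
      refine (Pi.basisFun R (Fin m)).toDualEquiv.injective ?_
      rw [map_sum]
      simp only [map_smul, toDual_rows]
      refine hw.symm.trans (LinearMap.ext fun x => ?_)
      rw [LinearMap.dualMap_apply]
      conv_lhs => rw [pi_eq_sum_univ' (σ x), map_sum]
      simp [mul_comm]
    rw [hv']
    exact Submodule.sum_mem _ fun i _ => Submodule.smul_mem _ _ (Submodule.subset_span ⟨i, rfl⟩)
  · rintro _ ⟨i, rfl⟩
    exact ⟨LinearMap.proj i, (toDual_rows σ i).symm⟩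

variable (Pp : RepPair R (Mp σ) d) (Pm : RepPair R (Km σ) (d - δ))

/-- The product. -/
abbrev Yhat : Scheme.{u} := pullback Pp.X.hom Pm.X.hom

/-- The structure map. -/
abbrev str : Yhat σ Pp Pm ⟶ base R := pullback.fst Pp.X.hom Pm.X.hom ≫ Pp.X.hom

theorem exists_idx {M : Type u} [AddCommGroup M] [Module R M] {n k : ℕ} {π : (Fin n → R) →ₗ[R] M}
    {A : Type u} [CommRing A] [Algebra R A] [Nontrivial A] {x : Fin k → M} {N : Pt R M k A}
    (hx : IsIn x N) (hxS : ∀ j, x j ∈ Set.range (gen π)) {r : ℕ} (hr : k ≤ n → r + k = n) :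
    ∃ e : Fin r ⊕ Fin k ≃ Fin n, x = fun j => gen π (e (Sum.inr j)) := by
  choose idx hidx using hxS
  have hinj : Function.Injective idx := fun j j' hjj => by
    by_contra hne
    have h : (Pi.single j 1 : Fin k → A) = Pi.single j' 1 := by
      rw [← coords_x hx j, ← coords_x hx j', ← hidx j, ← hidx j', hjj]
    exact one_ne_zero (α := A) (by simpa [hne] using congrFun h j)
  have hk : k ≤ n := by simpa using Fintype.card_le_of_injective idx hinj
  obtain ⟨e, he⟩ := exists_equiv (k := r) hinj (by have := hr hk; omega)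
  exact ⟨(Equiv.sumComm _ _).trans e, funext fun j => by
    rw [← hidx j, ← he j]
    rfl⟩

theorem locPrincipal (hd : δ ≤ d) :
    Curv2.IsLocPrincipal ((BlowUpLib.specIdeal (Fitt.ideal R (Mp σ) d)).comap (str σ Pp Pm)) := by
  classical
  intro y _
  let fs := pullback.fst Pp.X.hom Pm.X.hom
  let sn := pullback.snd Pp.X.hom Pm.X.hom
  obtain ⟨x, hxS, htx⟩ := Pp.exists_mem_chartOpen (Set.range (gen (LinearMap.range σ).mkQ))
    (fun K _ _ N => exists_isIn_of_span (span_gen _ (Submodule.mkQ_surjective _)) N) (fs y)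
  obtain ⟨x', hxS', htx'⟩ := Pm.exists_mem_chartOpen (Set.range (gen (pim σ)))
    (fun K _ _ N => exists_isIn_of_span (span_gen _ (pim_surjective σ)) N) (sn y)
  obtain ⟨U, hyU, hU⟩ := BlowUpLib.exists_affine y (W := fs ⁻¹ᵁ Pp.chartOpen x ⊓ sn ⁻¹ᵁ Pm.chartOpen x') ⟨htx, htx'⟩
  obtain ⟨φ, hφ⟩ := Spec.map_surjective (U.2.fromSpec ≫ str σ Pp Pm)
  letI : Algebra R Γ(Yhat σ Pp Pm, U.1) := φ.hom.toAlgebra
  let A : CommAlgCat.{u} R := CommAlgCat.of R Γ(Yhat σ Pp Pm, U.1)
  have hsp : U.2.fromSpec ≫ str σ Pp Pm = sp A := hφ.symm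
  haveI : Nontrivial A := by
    haveI : Nonempty ↥(Spec Γ(Yhat σ Pp Pm, U.1)) := ⟨U.2.primeIdealOf ⟨y, hyU⟩⟩
    exact PrimeSpectrum.nonempty_iff_nontrivial.mp ‹_›
  let ap : APt Pp.fam.g A := ⟨U.2.fromSpec ≫ fs, by rw [RepPair.fam_g, Category.assoc]; exact hsp⟩
  let am : APt Pm.fam.g A := ⟨U.2.fromSpec ≫ sn, by
    rw [RepPair.fam_g, Category.assoc, ← pullback.condition]; exact hsp⟩
  have hrp : Set.range ap.hom ⊆ (Pp.chartOpen x : Set Pp.X.left) := by
    rintro _ ⟨z, rfl⟩
    have hz : U.2.fromSpec z ∈ U.1 := U.2.range_fromSpec.subset ⟨z, rfl⟩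
    exact (hU hz).1
  have hrm : Set.range am.hom ⊆ (Pm.chartOpen x' : Set Pm.X.left) := by
    rintro _ ⟨z, rfl⟩
    have hz : U.2.fromSpec z ∈ U.1 := U.2.range_fromSpec.subset ⟨z, rfl⟩
    exact (hU hz).2
  have hp := (Pp.range_subset_chartOpen_iff x ap).1 hrp
  have hm := (Pm.range_subset_chartOpen_iff x' am).1 hrm
  obtain ⟨e, he⟩ := exists_idx hp hxS (r := m + δ - d) (fun h => by omega)
  obtain ⟨e', he'⟩ := exists_idx hm hxS' (r := m + δ - d) (fun h => by omega)
  subst he he'
  obtain ⟨G, hG⟩ := exists_factor (A := A) _ (cols σ) e (ker_mkQ_eq σ) (normal_coordsR hp)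
  obtain ⟨H, hH⟩ := exists_factor (A := A) _ (rows σ) e' (ker_pim σ) (normal_coordsR hm)
  rw [mat_rows] at hH
  have hH' := congrArg Matrix.transpose hH
  rw [Matrix.transpose_mul, Matrix.transpose_transpose, Matrix.transpose_submatrix, Matrix.transpose_transpose] at hH'
  let I : Fin (m + δ - d) → Fin (m + δ) := fun a => e (Sum.inl a)
  let J : Fin (m + δ - d) → Fin m := fun a => e' (Sum.inl a)
  let S := mat A (cols σ)
  have hid : (Fitt.ideal R (Mp σ) d).map (algebraMap R A) = Ideal.span {(S.submatrix I J).det} := by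
    refine le_antisymm (fitt_map_le _ _ (Submodule.mkQ_surjective _) (ker_mkQ_eq σ) d rfl fun ei ci => ?_)
      ((Ideal.span_singleton_le_iff_mem _).2 (det_mem_fitt _ _ (Submodule.mkQ_surjective _) (ker_mkQ_eq σ) d rfl I J))
    have h1 : S.submatrix ei ci = G.submatrix ei id * (S.submatrix I J * Hᵀ.submatrix id ci) := by
      conv_lhs => rw [show S = G * S.submatrix I id from hG, Matrix.submatrix_mul _ _ ei id ci Function.bijective_id,
        Matrix.submatrix_submatrix]
      congr 1
      show S.submatrix I ci = _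
      conv_lhs => rw [show S = S.submatrix id J * Hᵀ from hH', Matrix.submatrix_mul _ _ I id ci Function.bijective_id,
        Matrix.submatrix_submatrix]
      rfl
    refine Ideal.mem_span_singleton.2 ?_
    show _ ∣ (S.submatrix ei ci).det
    rw [h1, Matrix.det_mul, Matrix.det_mul]
    exact Dvd.dvd.mul_left (Dvd.intro _ rfl) _
  refine ⟨U, hyU, (S.submatrix I J).det, BlowUpLib.specIdeal_injective ?_⟩
  rw [← BlowUpLib.comap_fromSpec, ← Scheme.IdealSheafData.comap_comp, hsp, BlowUpLib.comap_specIdeal, hid]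

section Universal

variable {T : Scheme.{u}} (g : T ⟶ base R)
  (hY : BlowUp.IsEffCartierIdeal ((BlowUpLib.specIdeal (Fitt.ideal R (Mp σ) d)).comap g))
  (hkill : ∀ (A : CommAlgCat.{u} R), APt g A → ∀ j < d, (Fitt.ideal R (Mp σ) j).map (algebraMap R A) = ⊥)

include hY hkill in
theorem exists_pivot (y : T) :
    ∃ (A : CommAlgCat.{u} R) (a : APt g A) (I : Fin (m + δ - d) → Fin (m + δ)) (J : Fin (m + δ - d) → Fin m),
      IsOpenImmersion a.hom ∧ y ∈ Set.range a.hom ∧ Nontrivial A ∧ d ≤ m + δ ∧ IsPivot (mat A (cols σ)) I J := by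
  classical
  obtain ⟨B, _, j, hj, t, ht, ⟨z, hz⟩, hI⟩ := BlowUpLib.exists_spec_chart hY y
  obtain ⟨φ, hφ⟩ := Spec.map_surjective (j ≫ g)
  letI : Algebra R B := φ.hom.toAlgebra
  let a₀ : APt g (CommAlgCat.of R B) := ⟨j, hφ.symm⟩
  have hB : (Fitt.ideal R (Mp σ) d).map (algebraMap R B) = Ideal.span {t} := by
    refine BlowUpLib.specIdeal_injective ?_
    rw [← BlowUpLib.comap_specIdeal, ← hI, ← Scheme.IdealSheafData.comap_comp]
    exact congrArg (fun k => Scheme.IdealSheafData.comap _ k) hφ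
  let ι := (Fin (m + δ - d) → Fin (m + δ)) × (Fin (m + δ - d) → Fin m)
  let μ : ι → B := fun p => ((mat B (cols σ)).submatrix p.1 p.2).det
  have hμ : ∀ p, ∃ c, μ p = t * c := fun p =>
    Ideal.mem_span_singleton.1 (hB ▸ det_mem_fitt _ _ (Submodule.mkQ_surjective _) (ker_mkQ_eq σ) d rfl p.1 p.2)
  choose T' hT' using hμ
  have htmem : t ∈ Ideal.span (Set.range μ) := by
    have h0 : Ideal.span {t} ≤ Ideal.span (Set.range μ) := hB ▸
      fitt_map_le _ _ (Submodule.mkQ_surjective _) (ker_mkQ_eq σ) d rfl fun e c => Ideal.subset_span ⟨(e, c), rfl⟩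
    exact h0 (Ideal.mem_span_singleton_self t)
  obtain ⟨b, hb⟩ := Ideal.mem_span_range_iff_exists_fun.1 htmem
  have hb1 : ∑ p, b p * T' p = 1 := sub_eq_zero.1 (mem_nonZeroDivisors_iff_right.mp ht _ (by
    rw [sub_mul, one_mul, Finset.sum_mul]
    refine sub_eq_zero.2 ((Finset.sum_congr rfl fun i _ => ?_).trans hb)
    rw [hT' i]; ring))
  let P : PrimeSpectrum B := z
  obtain ⟨p, hp⟩ : ∃ p, T' p ∉ P.asIdeal := by
    by_contra hne
    push Not at hne
    exact P.isPrime.one_notMem (hb1 ▸ P.asIdeal.sum_mem fun p _ => P.asIdeal.mul_mem_left _ (hne p))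
  let B' := Localization.Away (T' p)
  let f : B →ₐ[R] B' := IsScalarTower.toAlgHom R B B'
  let A : CommAlgCat.{u} R := CommAlgCat.of R B'
  let a : APt g A := a₀.res f
  have hopen : IsOpenImmersion (Spec.map (CommRingCat.ofHom (algebraMap B B'))) :=
    IsOpenImmersion.of_isLocalization (T' p)
  obtain ⟨q, hq⟩ : P ∈ Set.range (PrimeSpectrum.comap (algebraMap B B')) := by
    rw [PrimeSpectrum.localization_away_comap_range B' (T' p)]
    exact hp
  haveI hnt : Nontrivial A := PrimeSpectrum.nonempty_iff_nontrivial.mp ⟨q⟩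
  haveI := hj
  let k0 : Spec (CommRingCat.of B') ⟶ T := Spec.map (CommRingCat.ofHom (algebraMap B B')) ≫ j
  have hy' : y ∈ Set.range k0 := by
    refine ⟨(q : ↥(Spec (CommRingCat.of B'))), ?_⟩
    rw [Scheme.Hom.comp_apply, ← hz]
    exact congrArg j hq
  have hk0 : IsOpenImmersion k0 :=
    @IsOpenImmersion.comp _ _ _ (Spec.map (CommRingCat.ofHom (algebraMap B B'))) j hopen hj
  have hdn : d ≤ m + δ := by
    by_contra hne
    push Not at hne
    have h := hkill A a (m + δ) hne
    rw [fitt_eq _ _ (Submodule.mkQ_surjective _) (ker_mkQ_eq σ), Nat.sub_self, FittLib.J_zero, Ideal.map_top] at h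
    exact top_ne_bot h
  refine ⟨A, a, p.1, p.2, hk0, hy', hnt, hdn, ?_⟩
  · have hf : ∀ {l : ℕ} (e : Fin l → Fin (m + δ)) (c : Fin l → Fin m),
        ((mat A (cols σ)).submatrix e c).det = f ((mat B (cols σ)).submatrix e c).det := fun e c => by
      rw [det_mat_submatrix, det_mat_submatrix, AlgHom.commutes]
    have hu : IsUnit (f (T' p)) := IsLocalization.Away.algebraMap_isUnit (S := B') (T' p)
    have hΔ : ((mat A (cols σ)).submatrix p.1 p.2).det = f t * f (T' p) := by
      rw [hf, ← map_mul, ← hT']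
    refine ⟨?_, fun e c => ?_, fun e c => ?_⟩
    · rw [hΔ]
      refine mul_mem (mem_nonZeroDivisors_iff_right.mpr fun w hw => ?_) hu.mem_nonZeroDivisors
      obtain ⟨w₀, u₀, rfl⟩ := IsLocalization.exists_mk'_eq (Submonoid.powers (T' p)) w
      rw [show f t = IsLocalization.mk' B' t (1 : Submonoid.powers (T' p)) from (IsLocalization.mk'_one B' t).symm,
        ← IsLocalization.mk'_mul, IsLocalization.mk'_eq_zero_iff] at hw
      obtain ⟨v, hv⟩ := hw
      rw [IsLocalization.mk'_eq_zero_iff]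
      exact ⟨v, mem_nonZeroDivisors_iff_right.mp ht _ ((mul_assoc _ _ _).trans hv)⟩
    · rw [hΔ, hf, Ideal.mem_span_singleton, show ((mat B (cols σ)).submatrix e c).det = t * T' (e, c) from hT' (e, c),
        map_mul]
      exact mul_dvd_mul dvd_rfl hu.dvd
    · by_cases hd0 : d = 0
      · have hni : ¬ Function.Injective e := fun hin => by
          have := Fintype.card_le_of_injective e hin
          simp only [Fintype.card_fin] at this
          omega
        rw [det_mat_submatrix, FittLib.minor_eq_zero_of_not_injective _ hni, map_zero]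
      · have h := det_mem_fitt (A := A) _ _ (Submodule.mkQ_surjective _) (ker_mkQ_eq σ) (d - 1)
          (l := m + δ - d + 1) (by omega) e c
        rwa [hkill A a (d - 1) (by omega), Ideal.mem_bot] at h

include hY hkill in
theorem hom_eq (hd : δ ≤ d) (h h' : T ⟶ Yhat σ Pp Pm) (hh : h ≫ str σ Pp Pm = g) (hh' : h' ≫ str σ Pp Pm = g) :
    h = h' := by
  choose A a I J ho hy hn hdn hpv using exists_pivot σ g hY hkill
  refine Scheme.Cover.hom_ext (Scheme.Cover.mkOfCovers T (fun y => Spec (CommRingCat.of (A y))) (fun y => (a y).hom)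
    (fun y => ⟨y, hy y⟩) ho : T.OpenCover) _ _ fun (y : T) => ?_
  show (a y).hom ≫ h = (a y).hom ≫ h'
  haveI := hn y
  refine pullback.hom_ext ?_ ?_
  · exact congrArg APt.hom (Pp.val_injective
      (a := ⟨((a y).hom ≫ h) ≫ pullback.fst _ _, by rw [RepPair.fam_g, Category.assoc, Category.assoc]; exact (congrArg ((a y).hom ≫ ·) hh).trans (a y).over⟩)
      (b := ⟨((a y).hom ≫ h') ≫ pullback.fst _ _, by rw [RepPair.fam_g, Category.assoc, Category.assoc]; exact (congrArg ((a y).hom ≫ ·) hh').trans (a y).over⟩)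
      ((existsUnique_pt' (π := (LinearMap.range σ).mkQ) (s := cols σ) (Submodule.mkQ_surjective _) (ker_mkQ_eq σ) (hpv y)
        (by have := hdn y; omega)).unique trivial trivial))
  · exact congrArg APt.hom (Pm.val_injective
      (a := ⟨((a y).hom ≫ h) ≫ pullback.snd _ _, by rw [RepPair.fam_g, Category.assoc, Category.assoc, ← pullback.condition]; exact (congrArg ((a y).hom ≫ ·) hh).trans (a y).over⟩)
      (b := ⟨((a y).hom ≫ h') ≫ pullback.snd _ _, by rw [RepPair.fam_g, Category.assoc, Category.assoc, ← pullback.condition]; exact (congrArg ((a y).hom ≫ ·) hh').trans (a y).over⟩)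
      ((existsUnique_pt' (π := pim σ) (s := rows σ) (pim_surjective σ) (ker_pim σ) (hpv y).transpose
        (by have := hdn y; omega)).unique trivial trivial))

include hY hkill in
theorem exists_lift (hd : δ ≤ d) : ∃! h : T ⟶ Yhat σ Pp Pm, h ≫ str σ Pp Pm = g := by
  classical
  choose A a I J ho hy hn hdn hpv using exists_pivot σ g hY hkill
  let 𝒰 : T.OpenCover := Scheme.Cover.mkOfCovers T (fun y => Spec (CommRingCat.of (A y))) (fun y => (a y).hom)
    (fun y => ⟨y, hy y⟩) ho
  have hN : ∀ y, ∃ c : Spec (CommRingCat.of (A y)) ⟶ Yhat σ Pp Pm, c ≫ str σ Pp Pm = sp (A y) := fun y => by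
    haveI := hn y
    obtain ⟨Np, -, -⟩ := existsUnique_pt' (π := (LinearMap.range σ).mkQ) (s := cols σ) (k := d)
      (Submodule.mkQ_surjective _) (ker_mkQ_eq σ) (hpv y) (by have := hdn y; omega)
    obtain ⟨Nm, -, -⟩ := existsUnique_pt' (π := pim σ) (s := rows σ) (k := d - δ)
      (pim_surjective σ) (ker_pim σ) (hpv y).transpose (by have := hdn y; omega)
    refine ⟨pullback.lift (Pp.pt Np).hom (Pm.pt Nm).hom ((Pp.pt Np).over.trans (Pm.pt Nm).over.symm), ?_⟩
    rw [← Category.assoc, pullback.lift_fst]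
    exact (Pp.pt Np).over
  choose c hc using hN
  have hag : ∀ y z : T, pullback.fst (a y).hom (a z).hom ≫ c y = pullback.snd (a y).hom (a z).hom ≫ c z := fun y z => by
    haveI := ho y
    haveI := ho z
    refine hom_eq σ Pp Pm (pullback.fst (a y).hom (a z).hom ≫ sp (A y)) ?_ ?_ hd _ _ (by rw [Category.assoc, hc]) ?_
    · rw [← (a y).over, ← Category.assoc, Scheme.IdealSheafData.comap_comp]
      exact BlowUpLib.isEffCartier_comap_of_flat _ hY
    · exact fun B b => hkill B ⟨b.hom ≫ pullback.fst (a y).hom (a z).hom ≫ (a y).hom, by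
        rw [Category.assoc, Category.assoc, (a y).over]; exact b.over⟩
    · rw [Category.assoc, hc, ← (a y).over, ← (a z).over, pullback.condition_assoc]
  refine ⟨𝒰.glueMorphisms c hag, ?_, fun h hh => ?_⟩
  · refine 𝒰.hom_ext _ _ fun (y : T) => ?_
    rw [← Category.assoc, Scheme.Cover.ι_glueMorphisms, hc]
    exact (a y).over.symm
  · refine hom_eq σ Pp Pm g hY hkill hd _ _ hh ?_
    refine 𝒰.hom_ext _ _ fun (y : T) => ?_
    rw [← Category.assoc, Scheme.Cover.ι_glueMorphisms, hc]
    exact (a y).over.symm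

end Universal

theorem isBlowUp (hd : δ ≤ d) (c : Yhat σ Pp Pm ⟶ Spec (CommRingCat.of (R ⧸ ⨆ j < d, Fitt.ideal R (Mp σ) j)))
    (hc : c ≫ Spec.map (CommRingCat.ofHom (Ideal.Quotient.mk (⨆ j < d, Fitt.ideal R (Mp σ) j))) = str σ Pp Pm)
    (hC : BlowUp.IsEffCartierIdeal ((BlowUpLib.specIdeal (Fitt.ideal R (Mp σ) d)).comap (str σ Pp Pm))) :
    BlowUp.IsBlowUp c
      (BlowUpLib.specIdeal ((Fitt.ideal R (Mp σ) d).map (Ideal.Quotient.mk (⨆ j < d, Fitt.ideal R (Mp σ) j)))) := by
  let Q : Ideal R := ⨆ j < d, Fitt.ideal R (Mp σ) j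
  let i := Spec.map (CommRingCat.ofHom (Ideal.Quotient.mk Q))
  haveI : IsClosedImmersion i := IsClosedImmersion.spec_of_surjective _ Ideal.Quotient.mk_surjective
  rw [← BlowUpLib.comap_specIdeal]
  refine ⟨?_, fun T g hg => ?_⟩
  · rw [← Scheme.IdealSheafData.comap_comp, hc]
    exact hC
  rw [← Scheme.IdealSheafData.comap_comp] at hg
  have hkill : ∀ (A : CommAlgCat.{u} R), APt (g ≫ i) A → ∀ j < d, (Fitt.ideal R (Mp σ) j).map (algebraMap R A) = ⊥ := by
    intro A a j hj
    obtain ⟨ψ, hψ⟩ := Spec.map_surjective (a.hom ≫ g)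
    have h := a.over
    rw [← Category.assoc, ← hψ, ← Spec.map_comp] at h
    have h1 := congrArg CommRingCat.Hom.hom (Spec.map_injective h)
    rw [eq_bot_iff, Ideal.map_le_iff_le_comap]
    intro r hr
    rw [Ideal.mem_comap, Ideal.mem_bot]
    refine (DFunLike.congr_fun h1 r).symm.trans ?_
    show ψ.hom (Ideal.Quotient.mk Q r) = 0
    rw [Ideal.Quotient.eq_zero_iff_mem.mpr ((le_iSup₂_of_le (f := fun j _ => Fitt.ideal R (Mp σ) j) j hj le_rfl) hr), map_zero]
  obtain ⟨h, hh, huniq⟩ := exists_lift σ Pp Pm (g ≫ i) hg hkill hd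
  refine ⟨h, ?_, fun h' hh' => huniq h' ?_⟩
  · show h ≫ c = g
    rw [← cancel_mono i, Category.assoc, hc, hh]
  · show h' ≫ str σ Pp Pm = g ≫ i
    rw [← hc, ← Category.assoc, show h' ≫ c = g from hh']

end QuotBlowLib

end
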